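import Cfsg.Agent.Lib.Spor.HeldTri.AmLin.Rels

/-!
Coset enumeration tables, found by a computer search.
-/

set_option autoImplicit false

set_option maxRecDepth 100000
namespace CfsgLib.Spor.HeldTri.AmLin.PN

open CfsgLib.Spor.TC

/-- A part of `edgeTbl`. -/
def edgeTbl_0 : Tbl :=
  (.bin (.bin (.tip 0x20000210000a000022000040000a40000400004300005000054000090000940000500005300009000093000060000950000300003000008000080000040000810000700007500006000074000050000500000600006100001000060000030000320000500005200004000055000010000420000300003100002000035000010000240000100001100001000013000000000150000000000400000000003000000000020000000000100000000000) (.tip 0x16000163000140001400001600016200016000165000160001210001500015300015000152000160001600000e0001640001500015400014000141000150000e50000c000151000140001420000e0000e3000140001430000d0000d30000f0000f30000f0000f40001100011300011000114000120001230000e0000e200012000072000120000a0000120001360000a0000a300008000082000140000340000f0001450000c0000c40000c0000c3)) (.bin (.tip 0x5000111000110000f2000130000a0000070001320000b0000b30000d0000d2000080000830000d0000a1000100000d6000080000d400007000073000120001250000b000124000110000c0000080001150000a0001010000f0000f1000090000f00000e0000e00000b0000e100003000033000020000230000d0000d00000a0000d50000c0000b5000090000c20000900009100007000071000070000200000b000040000060000b200006000063)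 (.tip 0x15000150)))

/-- A table of the certificate. -/
def edgeTbl : Tbl :=
  edgeTbl_0

/-- A part of `nodeTbl`. -/
def nodeTbl_0 : Tbl :=
  (.bin (.tip 0xe40000c10000f50000720000b40000850000a10000900000b10000a5000092000062000044000065000041000064000010000045000012000025000014000005000000) .none)

/-- A table of the certificate. -/
def nodeTbl : Tbl :=
  nodeTbl_0

/-- A part of `rowTbl`. -/
def rowTbl_0 : Tbl :=
  (.bin (.tip 0x16000150001400012000110000f0000e0000d0000c0000b0000a00009000080000700006000050000400003000020000100000) .none)

/-- A table of the certificate. -/
def rowTbl : Tbl :=
  rowTbl_0

/-- The generators of the subgroup, as words. -/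
def subs : List (List ℕ) := [[0], [1], [2], [3], [4]]

/-- The certificate. -/
noncomputable def cert : Cert :=
  ⟨6, relWords relsN, subs, edgeTbl.get 44, nodeTbl.get 24, rowTbl.get 20⟩

end CfsgLib.Spor.HeldTri.AmLin.PN
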